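import Cfsg.Agent.S0508
import Cfsg.Agent.Lib.Groups.SelfCentPrime

/-!
Groups all of whose proper subgroups are CA: an element conjugate to another element of the same
cyclic group modulo the centre has abelian centraliser.  With dihedral Sylow 2-subgroups modulo the
centre this gives the TI condition, so the central quotient is a two-dimensional linear group.
-/

set_option autoImplicit false
set_option linter.style.haveILetI false

namespace CfsgLib.CAMinimal

variable {G : Type*} [Group G] [Finite G]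

/-- The criterion. -/
theorem comm_of_conj
    (hCA : ∀ H : Subgroup G, H ≠ ⊤ → ∀ x : H, x ∉ Subgroup.center H →
      IsMulCommutative (Subgroup.centralizer ({x} : Set H)))
    (hmax : ∀ N : Subgroup G, N.Normal → N ≠ ⊤ → N ≤ Subgroup.center G)
    {x g : G} (hx : x ∉ Subgroup.center G)
    (hg : g * x * g⁻¹ ∈ Subgroup.zpowers x ⊔ Subgroup.center G) (hne : g * x * g⁻¹ ≠ x) :
    ∀ u ∈ Subgroup.centralizer ({x} : Set G), ∀ v ∈ Subgroup.centralizer ({x} : Set G), Commute u v := by
  set K := Subgroup.zpowers x ⊔ Subgroup.center G with hK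
  have hxK : x ∈ K := Subgroup.mem_sup_left (Subgroup.mem_zpowers x)
  have hKx : K ≤ Subgroup.centralizer ({x} : Set G) :=
    sup_le (Subgroup.zpowers_le.2 (Subgroup.mem_centralizer_singleton_iff.2 rfl))
      (fun c hc => Subgroup.mem_centralizer_singleton_iff.2 (Subgroup.mem_center_iff.1 hc x).symm)
  set X := Subgroup.normalizer (K : Set G) with hX
  have hgX : g ∈ X := by
    refine Subgroup.mem_normalizer_iff_map_conj_eq.2 ?_
    refine Subgroup.eq_of_le_of_card_ge ?_ (le_of_eq (Subgroup.card_map_of_injective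
      (MulAut.conj g).injective).symm)
    rw [hK, Subgroup.map_sup, MonoidHom.map_zpowers]
    refine sup_le (Subgroup.zpowers_le.2 ?_) ?_
    · exact hg
    · rintro _ ⟨c, hc, rfl⟩
      refine Subgroup.mem_sup_right ?_
      show g * c * g⁻¹ ∈ Subgroup.center G
      rwa [(Subgroup.mem_center_iff.1 hc g), mul_inv_cancel_right]
  have hCX : Subgroup.centralizer ({x} : Set G) ≤ X := by
    intro u hu
    have hu' := Subgroup.mem_centralizer_singleton_iff.1 hu
    have hfix : K ≤ Subgroup.centralizer ({u} : Set G) :=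
      sup_le (Subgroup.zpowers_le.2 (Subgroup.mem_centralizer_singleton_iff.2 hu'.symm))
        (fun c hc => Subgroup.mem_centralizer_singleton_iff.2 (Subgroup.mem_center_iff.1 hc u).symm)
    refine Subgroup.mem_normalizer_iff.2 fun k => ?_
    constructor
    · intro hk
      rw [← Subgroup.mem_centralizer_singleton_iff.1 (hfix hk), mul_inv_cancel_right]; exact hk
    · intro hk
      have hc := Subgroup.mem_centralizer_singleton_iff.1 (hfix hk)
      have e : u * k * u⁻¹ = k := by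
        have h1 : u * k * u⁻¹ * u = u * (u * k * u⁻¹) := hc
        calc u * k * u⁻¹ = u⁻¹ * (u * (u * k * u⁻¹)) := by group
          _ = k := by rw [← h1]; group
      exact e ▸ hk
  have hXt : X ≠ ⊤ := by
    intro htop
    haveI hn : K.Normal := Subgroup.normalizer_eq_top_iff.1 htop
    by_cases hKt : K = ⊤
    · exact hx (Subgroup.mem_center_iff.2 fun b =>
        Subgroup.mem_centralizer_singleton_iff.1 (hKx (hKt ▸ Subgroup.mem_top b)))
    · exact hx (hmax K hn hKt hxK)
  have hxX : x ∈ X := hCX (Subgroup.mem_centralizer_singleton_iff.2 rfl)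
  have hnc : (⟨x, hxX⟩ : X) ∉ Subgroup.center X := fun hc => hne (by
    have := congrArg Subtype.val (Subgroup.mem_center_iff.1 hc ⟨g, hgX⟩)
    simp only [Subgroup.coe_mul] at this
    rw [this, mul_inv_cancel_right])
  have hab := hCA X hXt ⟨x, hxX⟩ hnc
  intro u hu v hv
  have mem : ∀ (w : G) (hw : w ∈ Subgroup.centralizer ({x} : Set G)),
      (⟨w, hCX hw⟩ : X) ∈ Subgroup.centralizer ({⟨x, hxX⟩} : Set X) := fun w hw =>
    Subgroup.mem_centralizer_singleton_iff.2 (Subtype.ext (Subgroup.mem_centralizer_singleton_iff.1 hw))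
  exact congrArg (fun w : Subgroup.centralizer ({⟨x, hxX⟩} : Set X) => ((w : X) : G))
    (hab.is_comm.comm ⟨_, mem u hu⟩ ⟨_, mem v hv⟩)

/-- An element moved inside an abelian centraliser has that centraliser. -/
theorem cent_eq
    (hCA : ∀ H : Subgroup G, H ≠ ⊤ → ∀ x : H, x ∉ Subgroup.center H →
      IsMulCommutative (Subgroup.centralizer ({x} : Set H)))
    (hmax : ∀ N : Subgroup G, N.Normal → N ≠ ⊤ → N ≤ Subgroup.center G)
    {a y g : G} (hab : ∀ u ∈ Subgroup.centralizer ({a} : Set G),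
      ∀ v ∈ Subgroup.centralizer ({a} : Set G), Commute u v)
    (hy : y ∈ Subgroup.centralizer ({a} : Set G)) (hyZ : y ∉ Subgroup.center G)
    (hg : g * y * g⁻¹ ∈ Subgroup.zpowers y ⊔ Subgroup.center G) (hne : g * y * g⁻¹ ≠ y) :
    Subgroup.centralizer ({y} : Set G) = Subgroup.centralizer ({a} : Set G) := by
  have hay : a ∈ Subgroup.centralizer ({y} : Set G) :=
    Subgroup.mem_centralizer_singleton_iff.2 (Subgroup.mem_centralizer_singleton_iff.1 hy).symm
  refine le_antisymm (fun u hu => Subgroup.mem_centralizer_singleton_iff.2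
    (comm_of_conj hCA hmax hyZ hg hne u hu a hay)) fun u hu => ?_
  exact Subgroup.mem_centralizer_singleton_iff.2 (hab u hu y hy)

omit [Finite G] in
/-- In a perfect group with simple central quotient proper normal subgroups are central. -/
theorem le_center_of_normal (hsimp : IsSimpleGroup (G ⧸ Subgroup.center G)) (hperf : commutator G = ⊤)
    (N : Subgroup G) (hN : N.Normal) (hne : N ≠ ⊤) : N ≤ Subgroup.center G := by
  haveI := hsimp
  haveI := hN
  have hmap : (N.map (QuotientGroup.mk' (Subgroup.center G))).Normal :=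
    hN.map _ (QuotientGroup.mk'_surjective _)
  rcases hmap.eq_bot_or_eq_top with h | h
  · rw [Subgroup.map_eq_bot_iff, QuotientGroup.ker_mk'] at h; exact h
  · have hsup : N ⊔ Subgroup.center G = ⊤ := by
      have e := congrArg (Subgroup.comap (QuotientGroup.mk' (Subgroup.center G))) h
      rwa [Subgroup.comap_top, Subgroup.comap_map_eq, QuotientGroup.ker_mk'] at e
    refine absurd (top_le_iff.mp ?_) hne
    rw [← hperf, commutator_def]
    refine (Subgroup.commutator_le).2 fun u _ v _ => ?_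
    obtain ⟨m, hm, c, hc, rfl⟩ := Subgroup.mem_sup_of_normal_left.1 (hsup ▸ Subgroup.mem_top u)
    obtain ⟨m', hm', c', hc', rfl⟩ := Subgroup.mem_sup_of_normal_left.1 (hsup ▸ Subgroup.mem_top v)
    rw [← QuotientGroup.eq_one_iff, ← QuotientGroup.mk'_apply (N := N), map_commutatorElement, map_mul,
      map_mul, (show QuotientGroup.mk' N m = 1 from (QuotientGroup.eq_one_iff m).2 hm),
      (show QuotientGroup.mk' N m' = 1 from (QuotientGroup.eq_one_iff m').2 hm'), one_mul, one_mul,
      ← map_commutatorElement, commutatorElement_eq_one_iff_commute.2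
        ((Subgroup.mem_center_iff.1 hc' c : Commute c c')), map_one]

theorem odd_sq {M : Type*} [Monoid M] {p : M} (ho : Odd (orderOf p)) (h : p ^ 2 = 1) : p = 1 := by
  rw [← orderOf_eq_one_iff]
  exact Nat.eq_one_of_dvd_coprimes (Nat.coprime_two_right.2 ho) dvd_rfl (orderOf_dvd_of_pow_eq_one h)

/-- The central quotient is a linear group. -/
theorem psl_of_invol [IsSimpleGroup (G ⧸ Subgroup.center G)]
    (hCA : ∀ H : Subgroup G, H ≠ ⊤ → ∀ x : H, x ∉ Subgroup.center H →
      IsMulCommutative (Subgroup.centralizer ({x} : Set H)))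
    (hmax : ∀ N : Subgroup G, N.Normal → N ≠ ⊤ → N ≤ Subgroup.center G)
    (S : Sylow 2 (G ⧸ Subgroup.center G)) (n : ℕ) (hn : 2 ≤ n)
    (hS : Nonempty ((S : Subgroup (G ⧸ Subgroup.center G)) ≃* DihedralGroup n))
    (a : G) (hab : ∀ u ∈ Subgroup.centralizer ({a} : Set G),
      ∀ v ∈ Subgroup.centralizer ({a} : Set G), Commute u v)
    (hao : orderOf (QuotientGroup.mk' (Subgroup.center G) a) = 2)
    (haS : QuotientGroup.mk' (Subgroup.center G) a ∈ (S : Subgroup (G ⧸ Subgroup.center G)))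
    (haZ : ∀ s ∈ (S : Subgroup (G ⧸ Subgroup.center G)),
      s * QuotientGroup.mk' (Subgroup.center G) a = QuotientGroup.mk' (Subgroup.center G) a * s)
    (hcyc : IsCyclic ((S : Subgroup (G ⧸ Subgroup.center G)) ⊓
      (Subgroup.centralizer ({a} : Set G)).map (QuotientGroup.mk' (Subgroup.center G)) :
        Subgroup (G ⧸ Subgroup.center G)))
    (hidx : ((S : Subgroup (G ⧸ Subgroup.center G)) ⊓
      (Subgroup.centralizer ({a} : Set G)).map (QuotientGroup.mk' (Subgroup.center G))).relIndex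
        (S : Subgroup (G ⧸ Subgroup.center G)) = 2)
    (hD : ∀ y ∈ Subgroup.centralizer ({a} : Set G),
      Odd (orderOf (QuotientGroup.mk' (Subgroup.center G) y)) →
      (∀ s ∈ (S : Subgroup (G ⧸ Subgroup.center G)),
        s * QuotientGroup.mk' (Subgroup.center G) y * s⁻¹ = QuotientGroup.mk' (Subgroup.center G) y) →
      y ∈ Subgroup.center G) :
    ∃ (F : Type) (_ : Field F) (_ : Fintype F), Odd (Fintype.card F) ∧
      Nonempty ((G ⧸ Subgroup.center G) ≃* Matrix.ProjectiveSpecialLinearGroup (Fin 2) F) := by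
  classical
  set Z := Subgroup.center G with hZ
  set π := QuotientGroup.mk' Z with hπ
  set t := π a with ht
  set A := (Subgroup.centralizer ({a} : Set G)).map π with hA
  set H := Subgroup.centralizer ({t} : Set (G ⧸ Z)) with hH
  set O := (Cfsg.oddCore H).map H.subtype with hO
  have hker : ∀ {u v : G}, π u = π v → ∃ c ∈ Z, v = u * c := fun {u v} h =>
    ⟨u⁻¹ * v, QuotientGroup.eq.1 h, by group⟩
  have hone : ∀ {u : G}, π u = 1 ↔ u ∈ Z := fun {u} => QuotientGroup.eq_one_iff u
  -- abelian image and its normaliser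
  have hAc : ∀ p ∈ A, ∀ q ∈ A, p * q = q * p := by
    rintro _ ⟨u, hu, rfl⟩ _ ⟨v, hv, rfl⟩
    rw [← map_mul, ← map_mul, (hab u hu v hv).eq]
  have hAH : A ≤ H := by
    rintro _ ⟨u, hu, rfl⟩
    exact Subgroup.mem_centralizer_singleton_iff.2 (by
      rw [ht, ← map_mul, ← map_mul, Subgroup.mem_centralizer_singleton_iff.1 hu])
  have hshift : ∀ g : G, π g ∈ H → ∃ c ∈ Z, c * c = 1 ∧ g * a * g⁻¹ = a * c := by
    intro g hg
    obtain ⟨c, hc, e⟩ := hker (u := a) (v := g * a * g⁻¹) (by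
      rw [map_mul, map_mul, map_inv, Subgroup.mem_centralizer_singleton_iff.1 hg, mul_inv_cancel_right])
    refine ⟨c, hc, ?_, e⟩
    have ha2 : a * a ∈ Z := hone.1 (by rw [map_mul, ← pow_two, ← hao, pow_orderOf_eq_one])
    have e2 : g * (a * a) * g⁻¹ = a * a := by
      rw [Subgroup.mem_center_iff.1 ha2 g, mul_inv_cancel_right]
    have h3 : a * a * (c * c) = a * a * 1 := by
      rw [mul_one, show a * a * (c * c) = a * c * (a * c) by
        rw [mul_assoc a c (a * c), ← mul_assoc c a c, (Subgroup.mem_center_iff.1 hc a).symm]; group,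
        ← e, show g * a * g⁻¹ * (g * a * g⁻¹) = g * (a * a) * g⁻¹ by group, e2]
    exact mul_left_cancel h3
  have hodd : ∀ p ∈ H, Odd (orderOf p) → p ∈ A := by
    intro p hp ho
    obtain ⟨g, rfl⟩ := QuotientGroup.mk'_surjective Z p
    obtain ⟨c, hc, hc2, e⟩ := hshift g hp
    have hg2 : π g * π g ∈ A := by
      rw [← map_mul]
      refine ⟨g * g, Subgroup.mem_centralizer_singleton_iff.2 ?_, rfl⟩
      have e' : g * a = a * c * g := by rw [← e]; group
      calc g * g * a = g * (a * c * g) := by rw [mul_assoc, e']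
        _ = (g * a) * (c * g) := by group
        _ = a * c * (g * c) * g := by rw [e']; group
        _ = a * (c * c) * (g * g) := by rw [Subgroup.mem_center_iff.1 hc g]; group
        _ = a * (g * g) := by rw [hc2, mul_one]
    obtain ⟨k, hk⟩ := ho
    have : π g = (π g * π g) ^ (k + 1) := by
      rw [← pow_two, ← pow_mul, show 2 * (k + 1) = (2 * k + 1) + 1 by omega, ← hk, pow_succ,
        pow_orderOf_eq_one, one_mul]
    rw [this]
    exact pow_mem hg2 _
  have hOH : O ≤ H := hO ▸ Subgroup.map_subtype_le _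
  haveI hOn : (Cfsg.oddCore H).Normal := CfsgLib.SelfCent.pPrimeCore_normal' 2
  have hOodd : ∀ p ∈ O, Odd (orderOf p) := by
    rintro _ ⟨q, hq, rfl⟩
    rw [Subgroup.coe_subtype, Subgroup.orderOf_coe]
    have hco : Odd (Nat.card (Cfsg.oddCore H)) :=
      Nat.coprime_two_right.1 (CfsgLib.SelfCent.pPrimeCore_coprime 2)
    exact hco.of_dvd_nat (Subgroup.orderOf_dvd_natCard _ hq)
  have hOA : O ≤ A := fun p hp => hodd p (hOH hp) (hOodd p hp)
  have hOnH : ∀ h ∈ H, ∀ p ∈ O, h * p * h⁻¹ ∈ O := by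
    rintro h hh _ ⟨q, hq, rfl⟩
    exact ⟨⟨h, hh⟩ * q * ⟨h, hh⟩⁻¹, hOn.conj_mem q hq _, rfl⟩
  have hSH : (S : Subgroup (G ⧸ Z)) ≤ H := fun s hs =>
    Subgroup.mem_centralizer_singleton_iff.2 (haZ s hs)
  have hpair : ∀ u ∈ (S : Subgroup (G ⧸ Z)), ∀ v ∈ (S : Subgroup (G ⧸ Z)), u ∉ A → v ∉ A →
      u * v ∈ A := by
    intro u hu v hv huA hvA
    have h := Subgroup.mul_mem_iff_of_index_two (a := (⟨u, hu⟩ : (S : Subgroup (G ⧸ Z))))
      (b := ⟨v, hv⟩) (H := ((S : Subgroup (G ⧸ Z)) ⊓ A).subgroupOf S) hidx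
    simp only [Subgroup.mem_subgroupOf, Subgroup.coe_mul, Subgroup.mem_inf] at h
    exact (h.2 ⟨fun e => absurd e.2 huA, fun e => absurd e.2 hvA⟩).2
  -- inversion
  have hb : ∀ s ∈ (S : Subgroup (G ⧸ Z)), s ∉ A → ∀ p ∈ O, s * p * s⁻¹ = p⁻¹ := by
    intro s hs hsA p hp
    have hp' := hOnH s (hSH hs) p hp
    set w := s * p * s⁻¹ * p with hw
    have hwO : w ∈ O := mul_mem hp' hp
    have hfix : ∀ q ∈ O, s * (s * q * s⁻¹) * s⁻¹ = q := fun q hq => by
      rw [show s * (s * q * s⁻¹) * s⁻¹ = (s * s) * q * (s * s)⁻¹ by group,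
        hAc _ (hpair s hs s hs hsA hsA) q (hOA hq), mul_inv_cancel_right]
    have hsw : s * w * s⁻¹ = w := by
      rw [show s * w * s⁻¹ = s * (s * p * s⁻¹) * s⁻¹ * (s * p * s⁻¹) by rw [hw]; group,
        hfix p hp, hw, hAc p (hOA hp) _ (hOA hp')]
    obtain ⟨y, hy, hyw⟩ := hOA hwO
    have hyZ : y ∈ Z := by
      refine hD y hy (by rw [hyw]; exact hOodd w hwO) fun r hr => ?_
      rw [hyw]
      by_cases hrA : r ∈ A
      · rw [hAc r hrA w (hOA hwO), mul_inv_cancel_right]
      · have hrs := hpair r hr s hs hrA hsA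
        calc r * w * r⁻¹ = r * (s * w * s⁻¹) * r⁻¹ := by rw [hsw]
          _ = (r * s) * w * (r * s)⁻¹ := by group
          _ = w := by rw [hAc _ hrs w (hOA hwO), mul_inv_cancel_right]
    have hw1 : w = 1 := hyw ▸ hone.2 hyZ
    exact eq_inv_of_mul_eq_one_left (hw ▸ hw1)
  obtain ⟨s, hs, hsA⟩ : ∃ s ∈ (S : Subgroup (G ⧸ Z)), s ∉ A := by
    by_contra hcon
    push Not at hcon
    rw [show (S : Subgroup (G ⧸ Z)) ⊓ A = S from inf_eq_left.2 hcon, Subgroup.relIndex_self] at hidx
    omega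
  have hSC : O ≠ ⊥ → (S : Subgroup (G ⧸ Z)) ⊓ Subgroup.centralizer (O : Set (G ⧸ Z)) =
      (S : Subgroup (G ⧸ Z)) ⊓ A := by
    intro hne
    ext r
    simp only [Subgroup.mem_inf]
    refine ⟨fun hr => ⟨hr.1, ?_⟩, fun hr => ⟨hr.1, ?_⟩⟩
    · by_contra hrA
      obtain ⟨p, hp, hp1⟩ := (Subgroup.ne_bot_iff_exists_ne_one.1 hne) |>.elim
        fun q hq => (⟨q.1, q.2, fun e => hq (Subtype.ext e)⟩ : ∃ p ∈ O, p ≠ 1)
      have h1 := hb r hr.1 hrA p hp
      rw [← Subgroup.mem_centralizer_iff.1 hr.2 p hp, mul_inv_cancel_right] at h1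
      have h2 : p ^ 2 = 1 := by rw [pow_two]; nth_rewrite 2 [h1]; exact mul_inv_cancel p
      exact hp1 (odd_sq (hOodd p hp) h2)
    · exact Subgroup.mem_centralizer_iff.2 fun p hp => hAc p (hOA hp) r hr.2
  -- the involution of `A`
  have huniq : ∀ b ∈ A, b * b = 1 → b ≠ 1 → b = t := by
    intro b hbA hb2 hb1
    have hbp : IsPGroup 2 (Subgroup.zpowers b) := IsPGroup.of_card (n := 1) (by
      rw [Nat.card_zpowers, pow_one, orderOf_eq_prime (by rw [pow_two]; exact hb2) hb1])
    have hbH : Subgroup.zpowers b ≤ H := Subgroup.zpowers_le.2 (hAH hbA)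
    obtain ⟨P, hP⟩ := (hbp.comap_of_injective H.subtype H.subtype_injective).exists_le_sylow
    obtain ⟨h, hh⟩ := MulAction.exists_smul_eq H P (S.subtype hSH)
    have hbS : (h : G ⧸ Z) * b * (h : G ⧸ Z)⁻¹ ∈ (S : Subgroup (G ⧸ Z)) := by
      have hmem : h * ⟨b, hAH hbA⟩ * h⁻¹ ∈ (h • P : Sylow 2 H) := by
        exact Subgroup.smul_mem_pointwise_smul _ (MulAut.conj h) (P : Subgroup H)
          (hP (Subgroup.mem_zpowers b))
      rw [hh] at hmem
      exact hmem
    have hbA' : (h : G ⧸ Z) * b * (h : G ⧸ Z)⁻¹ ∈ A := by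
      obtain ⟨g, hg⟩ := QuotientGroup.mk'_surjective Z (h : G ⧸ Z)
      obtain ⟨u, hu, hub⟩ := hbA
      obtain ⟨c, hc, -, e⟩ := hshift g (hg ▸ h.2)
      refine ⟨g * u * g⁻¹, Subgroup.mem_centralizer_singleton_iff.2 ?_, by
        rw [map_mul, map_mul, map_inv, hg, hub]⟩
      have hu' := Subgroup.mem_centralizer_singleton_iff.1 hu
      have e1 : a = g * (a * c⁻¹) * g⁻¹ := by
        rw [show g * (a * c⁻¹) * g⁻¹ = g * a * g⁻¹ * (g * c⁻¹ * g⁻¹) by group, e,
          Subgroup.mem_center_iff.1 (inv_mem hc) g]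
        group
      have hcu : u * c⁻¹ = c⁻¹ * u := Subgroup.mem_center_iff.1 (inv_mem hc) u
      calc g * u * g⁻¹ * a = g * (u * (a * c⁻¹)) * g⁻¹ := by nth_rewrite 1 [e1]; group
        _ = g * (a * (c⁻¹ * u)) * g⁻¹ := by rw [← mul_assoc u a c⁻¹, hu', mul_assoc a u c⁻¹, hcu]
        _ = (g * (a * c⁻¹) * g⁻¹) * (g * u * g⁻¹) := by group
        _ = a * (g * u * g⁻¹) := by rw [← e1]
    haveI := hcyc
    haveI : Fintype ((S : Subgroup (G ⧸ Z)) ⊓ A : Subgroup (G ⧸ Z)) := Fintype.ofFinite _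
    have key : (h : G ⧸ Z) * b * (h : G ⧸ Z)⁻¹ = t := by
      by_contra hne
      let T : Finset ((S : Subgroup (G ⧸ Z)) ⊓ A : Subgroup (G ⧸ Z)) :=
        {1, ⟨t, haS, a, Subgroup.mem_centralizer_singleton_iff.2 rfl, rfl⟩, ⟨_, hbS, hbA'⟩}
      have hT : T ⊆ Finset.univ.filter (fun r => r ^ 2 = 1) := by
        intro r hr
        simp only [T, Finset.mem_insert, Finset.mem_singleton] at hr
        refine Finset.mem_filter.2 ⟨Finset.mem_univ _, ?_⟩
        rcases hr with rfl | rfl | rfl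
        · exact one_pow 2
        · exact Subtype.ext (by
            show t ^ 2 = 1
            rw [← hao]; exact pow_orderOf_eq_one t)
        · exact Subtype.ext (by
            show ((h : G ⧸ Z) * b * (h : G ⧸ Z)⁻¹) ^ 2 = 1
            rw [conj_pow, pow_two, hb2, mul_one, mul_inv_cancel])
      have ht1 : t ≠ 1 := fun e => by rw [e, orderOf_one] at hao; omega
      have hb1' : (h : G ⧸ Z) * b * (h : G ⧸ Z)⁻¹ ≠ 1 := fun e => hb1 (conj_eq_one_iff.1 e)
      have hc3 : T.card = 3 := Finset.card_eq_three.2 ⟨_, _, _,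
        fun e => ht1 (congrArg Subtype.val e).symm, fun e => hb1' (congrArg Subtype.val e).symm,
        fun e => hne (congrArg Subtype.val e).symm, rfl⟩
      have := (Finset.card_le_card hT).trans (IsCyclic.card_pow_eq_one_le (by norm_num))
      omega
    have hth : (h : G ⧸ Z) * t = t * (h : G ⧸ Z) := Subgroup.mem_centralizer_singleton_iff.1 h.2
    calc b = (h : G ⧸ Z)⁻¹ * ((h : G ⧸ Z) * b * (h : G ⧸ Z)⁻¹) * (h : G ⧸ Z) := by group
      _ = t := by rw [key, mul_assoc, ← hth, inv_mul_cancel_left]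
  -- the TI condition
  have hc : ∀ Y : Subgroup (G ⧸ Z), Y ≤ O → Y ≠ ⊥ → Subgroup.normalizer (Y : Set (G ⧸ Z)) ≤ H := by
    intro Y hY hne gb hgb
    obtain ⟨p, hp, hp1⟩ := (Subgroup.ne_bot_iff_exists_ne_one.1 hne) |>.elim
      fun q hq => (⟨q.1, q.2, fun e => hq (Subtype.ext e)⟩ : ∃ p ∈ Y, p ≠ 1)
    obtain ⟨g, rfl⟩ := QuotientGroup.mk'_surjective Z gb
    obtain ⟨sg, hsg⟩ := QuotientGroup.mk'_surjective Z s
    have main : ∀ y : G, π y ∈ O → π y ≠ 1 →
        Subgroup.centralizer ({y} : Set G) = Subgroup.centralizer ({a} : Set G) := by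
      intro y hyO hy1
      obtain ⟨y0, hy0, e0⟩ := hOA hyO
      obtain ⟨c, hc, e⟩ := hker e0
      have hyC : y ∈ Subgroup.centralizer ({a} : Set G) := by
        rw [e]
        exact mul_mem hy0 (Subgroup.mem_centralizer_singleton_iff.2 (Subgroup.mem_center_iff.1 hc a).symm)
      have hinv : π (sg * y * sg⁻¹) = π y⁻¹ := by
        rw [map_mul, map_mul, map_inv, map_inv, hsg, hb s hs hsA _ hyO]
      obtain ⟨c', hc', e'⟩ := hker hinv.symm
      refine cent_eq hCA hmax hab hyC (fun hz => hy1 (hone.2 hz)) (g := sg) ?_ fun e'' => ?_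
      · rw [e']
        exact mul_mem (Subgroup.mem_sup_left (inv_mem (Subgroup.mem_zpowers y))) (Subgroup.mem_sup_right hc')
      · rw [e''] at hinv
        have h2 : π y ^ 2 = 1 := by
          rw [pow_two]; nth_rewrite 2 [hinv]; rw [map_inv, mul_inv_cancel]
        exact hy1 (odd_sq (hOodd _ hyO) h2)
    obtain ⟨y, rfl⟩ := QuotientGroup.mk'_surjective Z p
    have hy' : π (g * y * g⁻¹) ∈ Y := by
      rw [map_mul, map_mul, map_inv]
      exact (Subgroup.mem_normalizer_iff.1 hgb _).1 hp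
    have h1 := main y (hY hp) hp1
    have h2 := main (g * y * g⁻¹) (hY hy') (by
      rw [map_mul, map_mul, map_inv]; exact fun e => hp1 (conj_eq_one_iff.1 e))
    have hgag : g * a * g⁻¹ ∈ Subgroup.centralizer ({a} : Set G) := by
      rw [← h2]
      refine Subgroup.mem_centralizer_singleton_iff.2 ?_
      have hay : a ∈ Subgroup.centralizer ({y} : Set G) := h1 ▸ Subgroup.mem_centralizer_singleton_iff.2 rfl
      rw [show g * a * g⁻¹ * (g * y * g⁻¹) = g * (a * y) * g⁻¹ by group,
        Subgroup.mem_centralizer_singleton_iff.1 hay]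
      group
    refine Subgroup.mem_centralizer_singleton_iff.2 ?_
    have e : π (g * a * g⁻¹) = t := huniq _ ⟨_, hgag, rfl⟩ (by
      rw [map_mul, map_mul, map_inv, ← ht,
        show π g * t * (π g)⁻¹ * (π g * t * (π g)⁻¹) = π g * (t * t) * (π g)⁻¹ by group,
        ← pow_two, ← hao, pow_orderOf_eq_one, mul_one, mul_inv_cancel]) (by
      rw [map_mul, map_mul, map_inv, ← ht]
      intro e
      rw [conj_eq_one_iff.1 e, orderOf_one] at hao
      omega)
    rw [map_mul, map_mul, map_inv, ← ht] at e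
    calc π g * t = π g * t * (π g)⁻¹ * π g := by group
      _ = t * π g := by rw [e]
  refine Cfsg.Agent.S0508.result S n hn hS t hao haS haZ O hO (fun hne => ?_) (fun r hr hrc p hp => ?_) hc
  · rw [hSC hne]; exact ⟨hcyc, hidx⟩
  · by_cases hO1 : O = ⊥
    · rw [hO1, Subgroup.mem_bot] at hp; subst hp; simp
    · exact hb r hr (fun hrA => hrc ((hSC hO1).ge (⟨hr, hrA⟩ :
        r ∈ (S : Subgroup (G ⧸ Z)) ⊓ A)).2) p hp

end CfsgLib.CAMinimal
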